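import Cfsg.Agent.Fv.F
import Cfsg.Agent.S5278
import Cfsg.Agent.Fusion.BrQuo

/-! Fixed point free automorphisms of fusion systems. -/

set_option autoImplicit false

namespace Cfsg.Agent.Fv

open Subgroup Cfsg.Agent.Fusion Cfsg.Agent.Fusion.FS
open scoped commutatorElement

universe u

section
variable {G : Type*} [Group G] [Finite G] {p r : ℕ} [hp : Fact p.Prime]

theorem act_aut (hp2 : p ≠ 2) (hr : r.Prime) {a : G} {T B : Subgroup G} (hc : T ≤ cz T)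
    (hT : ∀ t ∈ T, t ^ p = 1) (h0 : T ≠ ⊥) (hB : B ≤ nz T) (ha : a ∈ nz T) (haB : a ∈ nz B)
    (hpow : a ^ r ∈ cz T) (hcop : ∀ g ∈ B, ∃ m, r.Coprime m ∧ g ^ m ∈ cz T)
    (hfix : ∀ t ∈ T, a * t * a⁻¹ = t → t = 1)
    (hirr : ∀ U ≤ T, B ≤ nz U → a ∈ nz U → U = ⊥ ∨ U = T) :
    (∀ x ∈ B, ¬ Push.TrEl p T x) ∧ ∀ g ∈ B, ∃ k, ⁅g, a⁆ ^ 2 ^ k ∈ cz T := by
  haveI := Fact.mk hr
  letI : CommGroup T := { (inferInstance : Group T) with
    mul_comm := fun x y => Subtype.ext (mem_cz.1 (hc y.2) x x.2) }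
  let f := T.normalizerMonoidHom
  have hf : ∀ (g : nz T) (t : T), (f g t : G) = g * t * (g : G)⁻¹ := fun g t => rfl
  have hk : ∀ g : nz T, f g = 1 ↔ (g : G) ∈ cz T := fun g => by
    rw [← MonoidHom.mem_ker, normalizerMonoidHom_ker, mem_subgroupOf]
  have a1 : ∀ x : T, x ^ p = 1 := fun x => Subtype.ext (hT x x.2)
  have a0 : f ⟨a, ha⟩ ^ r = 1 := by rw [← map_pow, hk]; exact hpow
  have a2 : f ⟨a, ha⟩ ∈ nz ((B.subgroupOf (nz T)).map f) :=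
    map_mem_nz (mem_nz_of_forall fun x hx => conj_mem_of_nz (x := (x : G)) haB hx)
  have a3 : ¬ r ∣ Nat.card ((B.subgroupOf (nz T)).map f) := fun e => by
    obtain ⟨⟨_, g, g1, rfl⟩, hy⟩ := exists_prime_orderOf_dvd_card' r e
    obtain ⟨m, m1, m2⟩ := hcop g g1
    rw [← orderOf_coe] at hy
    exact (hr.coprime_iff_not_dvd.1 m1) (hy ▸ orderOf_dvd_of_pow_eq_one (by
      show f g ^ m = 1
      rw [← map_pow, hk]; exact m2))
  have a4 : ∀ v, f ⟨a, ha⟩ v = v → v = 1 := fun v e =>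
    Subtype.ext (hfix v v.2 (congrArg Subtype.val e))
  have a5 : ∀ U : Subgroup T, (∀ b ∈ (B.subgroupOf (nz T)).map f, ∀ u ∈ U, b u ∈ U) →
      (∀ u ∈ U, f ⟨a, ha⟩ u ∈ U) → U = ⊥ ∨ U = ⊤ := fun U u1 u2 => by
    rcases hirr (U.map T.subtype) (map_subtype_le U) (fun g hg => mem_nz_of_forall (by
        rintro _ ⟨u, hu, rfl⟩; exact ⟨_, u1 _ ⟨⟨g, hB hg⟩, hg, rfl⟩ u hu, rfl⟩))
      (mem_nz_of_forall (by rintro _ ⟨u, hu, rfl⟩; exact ⟨_, u2 u hu, rfl⟩)) with e | e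
    · exact Or.inl ((map_eq_bot_iff_of_injective _ T.subtype_injective).1 e)
    · exact Or.inr (map_injective T.subtype_injective (by
        rw [e, ← MonoidHom.range_eq_map, range_subtype]))
  refine ⟨fun x hx ⟨h1, _, h3, h4⟩ => ?_, fun g hg => ?_⟩
  · have mv : ∀ v : T, f ⟨x, h1⟩ v * v⁻¹ ∈ ⁅T, zpowers x⁆.subgroupOf T := fun v => by
      rw [commutator_comm]
      exact commutator_mem_commutator (mem_zpowers x) v.2
    refine core2 hp2 hr a1 _ _ a0 a2 a3 a4 a5 (x := f ⟨x, h1⟩) ⟨_, hx, rfl⟩ _ mv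
      (fun e => h3 ((hk ⟨x, h1⟩).1 (MulEquiv.ext fun v => mul_inv_eq_one.1 (e.le (mv v)))))
      fun w hw w' hw' b1 b2 => ?_
    obtain ⟨n, hn⟩ := h4 w hw w' hw' (fun e => b1 (Subtype.ext e)) fun e => b2 (Subtype.ext e)
    refine ⟨_, pow_mem (mem_zpowers _) n, Subtype.ext ?_⟩
    rw [← map_pow, hf]; exact hn
  · haveI := (nontrivial_iff_ne_bot T).2 h0
    obtain ⟨k, hk'⟩ := core3 hr a1 _ _ a0 a2 a3 a4 a5 (x := f ⟨g, hB hg⟩) ⟨_, hg, rfl⟩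
    rw [← map_commutatorElement, ← map_pow, hk] at hk'
    exact ⟨k, hk'⟩

/-- A saturated system with a fixed point free automorphism of order `r`, induced by `a`. -/
structure Hy (p r : ℕ) (F : FS G) (a : G) : Prop where
  sat : F.Sat p
  nm : a ∈ nz F.S
  st : ∀ P g, F.M P g → F.M (cj a P) (a * g * a⁻¹)
  fx : ∀ x ∈ F.S, a * x * a⁻¹ = x → x = 1
  pw : a ^ r ∈ cz F.S
  cop : ∀ P ≤ F.S, ∀ g ∈ F.aut P, ∃ m, r.Coprime m ∧ g ^ m ∈ cz P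

namespace Hy

variable {F : FS G} {a : G} {P Q T : Subgroup G} (h : Hy p r F a)
include h

omit hp in
theorem nz_aut (hP : P ≤ F.S) (ha : a ∈ nz P) : a ∈ nz (F.aut P) :=
  mem_nz_of_forall fun g hg => mem_aut_of (by
    have := h.st _ _ (M_of_aut hP hg)
    rwa [cj_of_nz ha] at this) (mul_mem (mul_mem ha (F.aut_le_nz P hg)) (inv_mem ha))

omit hp in
theorem surj (hP : P ≤ F.S) (ha : a ∈ nz P) {s : G} (hs : s ∈ P) : ∃ u ∈ P, ⁅u, a⁆ = s := by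
  let f : P → P := fun u => ⟨u * (a * u * a⁻¹)⁻¹, mul_mem u.2 (inv_mem (conj_mem_of_nz ha u.2))⟩
  obtain ⟨u, hu⟩ := Finite.surjective_of_injective (f := f) (fun x y e => by
    have e1 : (x : G) * (a * x * a⁻¹)⁻¹ = y * (a * y * a⁻¹)⁻¹ := congrArg Subtype.val e
    refine Subtype.ext (inv_mul_eq_one.1 (h.fx _ (hP (mul_mem (inv_mem x.2) y.2)) ?_))
    calc a * ((x : G)⁻¹ * y) * a⁻¹ = (x : G)⁻¹ * (x * (a * x * a⁻¹)⁻¹) * (a * y * a⁻¹) := by group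
      _ = _ := by rw [e1]; group) ⟨s, hs⟩
  refine ⟨u, u.2, Eq.trans ?_ (congrArg Subtype.val hu)⟩
  show _ = (u : G) * (a * u * a⁻¹)⁻¹
  rw [commutatorElement_def]; group

theorem exists_irr (hp2 : p ≠ 2) (hr : r.Prime) (hQ : Q ≤ F.S) (h0 : Q ≠ ⊥) (ha : a ∈ nz Q) :
    ∃ T ≤ Q ⊓ cz Q, T ≠ ⊥ ∧ F.aut Q ≤ nz T ∧ a ∈ nz T ∧ (∀ x ∈ F.aut T, ¬ Push.TrEl p T x) ∧
      ∀ g ∈ F.aut T, ∃ k, ⁅g, a⁆ ^ 2 ^ k ∈ cz T := by
  have hn := LocalEven.normalizer_le_normalizer_omegaOneCenter (p := p) Q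
  obtain ⟨T, ⟨t1, t2, t3, t4⟩, hmin⟩ := exists_minimal_of_wellFoundedLT
    (fun T : Subgroup G => T ≤ omegaOneCenter p Q ∧ T ≠ ⊥ ∧ F.aut Q ≤ nz T ∧ a ∈ nz T)
    ⟨_, le_rfl, LocalEven.omegaOneCenter_ne_bot (h.sat.pg_le hQ) h0,
      (F.aut_le_nz Q).trans hn, hn ha⟩
  have t5 : T ≤ Q ⊓ cz Q := fun t ht => ⟨(Transfer.mem_omegaOneCenter_iff.1 (t1 ht)).1,
    (Transfer.mem_omegaOneCenter_iff.1 (t1 ht)).2.1⟩
  have t6 := t5.trans inf_le_left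
  exact ⟨T, t5, t2, t3, t4, act_aut hp2 hr ((t5.trans inf_le_right).trans (cz_anti t6))
    (fun t ht => (Transfer.mem_omegaOneCenter_iff.1 (t1 ht)).2.2) t2 (F.aut_le_nz T) t4
    (h.nz_aut (t6.trans hQ) t4) (cz_anti (t6.trans hQ) h.pw) (h.cop T (t6.trans hQ))
    (fun t ht => h.fx t (hQ (t6 ht))) fun U u1 u2 u3 => or_iff_not_imp_left.2 fun u0 =>
      le_antisymm u1 (hmin ⟨u1.trans t1, u0,
        fun g hg => u2 (aut_restrict hQ hg t6 (t3 hg)), u3⟩ u1)⟩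

theorem exists_cen (hp2 : p ≠ 2) (hr : r.Prime) (hQ : F.Nor Q) (h0 : Q ≠ ⊥) (ha : a ∈ nz Q) :
    ∃ T, T ≠ ⊥ ∧ F.S ≤ cz T ∧ F.Nor T ∧ a ∈ nz T := by
  obtain ⟨T, t1, t2, t3, t4, -, t5⟩ := h.exists_irr hp2 hr hQ.1 h0 ha
  have hT := hQ.of_le (t1.trans inf_le_left) t3
  refine ⟨T, t2, fun s hs => ?_, hT, t4⟩
  obtain ⟨u, hu, rfl⟩ := h.surj le_rfl h.nm hs
  obtain ⟨k, hk⟩ := t5 u (aiS_le_aut hT.1 (mem_ai_of_mem hu (hT.sc.S_le_nz hu)))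
  obtain ⟨m, hm⟩ := isPGroup_iff.1 h.sat.pg _ hs
  exact mem_of_pow_mem_coprime hk (coprime_of_pow_eq_one hm fun e =>
    hp2 ((Nat.prime_dvd_prime_iff_eq hp.out Nat.prime_two).1 (hp.out.dvd_of_dvd_pow e)))

theorem nf (hQ : Q ≤ F.S) (hn : F.S ≤ nz Q) (ha : a ∈ nz Q) : Hy p r (F.NF Q) a := by
  have e : (F.NF Q).S = F.S := NF_S_of_normal hn
  refine ⟨h.sat.NF (FN.of_normal hQ hn), e ▸ h.nm, fun P g hg => ?_, e ▸ h.fx, e ▸ h.pw,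
    fun P hP g hg => h.cop P (hP.trans e.le) g (aut_mono (normK_le _ _ _) P hg)⟩
  obtain ⟨g1, c, g2, g3, g4⟩ := (NF_M hQ).1 hg
  have e2 : a * g * a⁻¹ * (a * c * a⁻¹) = a * (g * c) * a⁻¹ := by group
  refine (NF_M hQ).2 ⟨?_, a * c * a⁻¹, conj_mem_cz_cj g2, ?_, ?_⟩
  · rw [inf_eq_left.2 hn] at g1 ⊢
    exact (cj_mono g1).trans (cj_of_nz h.nm).le
  · rw [e2]; exact mul_mem (mul_mem ha g3) (inv_mem ha)
  · have := h.st _ _ g4
    rwa [cj_sup, cj_of_nz ha, ← e2] at this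

theorem quo {G' : Type*} [Group G'] [Finite G'] {θ : F.S →* G'} {E : FS G'} (q : Quo θ F E)
    (hf : Full E.S) (ha : a ∈ nz (F.S ⊓ pre θ ⊥)) : ∃ b, Hy p r E b := by
  have hS := cj_of_nz h.nm
  have k1 : ∀ x ∈ F.S, x ∈ F.S ⊓ pre θ ⊥ ↔ fn θ x = 1 := fun x hx =>
    ⟨fun e => (mem_pre.1 e.2).2, fun e => ⟨hx, mem_pre.2 ⟨hx, e⟩⟩⟩
  obtain ⟨b, hb⟩ := Full.exists_indM (θ := θ) (g := a) hf le_rfl hS.le q.S_eq.ge
    (by rw [hS]; exact q.S_eq.ge) fun x hx => by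
      rw [← k1 x hx, ← k1 _ (conj_mem_of_nz h.nm hx)]; exact mem_nz.1 ha x
  have pw : ∀ {P : Subgroup G} {g : G} {g' : G'}, IndM θ P g g' → g ∈ nz P → ∀ n : ℕ,
      IndM θ P (g ^ n) (g' ^ n) := fun {P g g'} e hg n => by
    induction n with
    | zero => simpa using indM_one θ P
    | succ n ih => rw [pow_succ, pow_succ]; exact e.mul ih (cj_of_nz hg).le
  refine ⟨b, q.sat h.sat, q.S_eq ▸ hb.mem_nz le_rfl h.nm, fun P' g' hg => ?_, fun y hy e => ?_,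
    q.S_eq ▸ (pw hb h.nm r).mem_cz le_rfl h.pw, fun P' hP g' hg => ?_⟩
  · obtain ⟨P, p1, -, rfl⟩ := q.lift (E.le_S hg)
    obtain ⟨g, g1, g2⟩ := q.bwd'' p1 hg
    have e1 := (hb.mono p1).im_cj p1 ((cj_mono p1).trans hS.le)
    rw [← e1, mul_assoc]
    refine q.M_of (g := a * (g * a⁻¹)) (mul_assoc a g _ ▸ h.st _ _ g1)
      (((hb.mono p1).inv.mul g2 (by simp)).mul hb ?_)
    rw [cj_mul, cj_inv_cj]; exact F.cj_le g1
  · obtain ⟨x, hx, rfl⟩ := q.lift_mem hy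
    rw [← hb x hx] at e
    obtain ⟨u, u1, u2⟩ := h.surj inf_le_left ha (s := x⁻¹ * (a * x * a⁻¹))
      ⟨F.S.mul_mem (inv_mem hx) (conj_mem_of_nz h.nm hx),
        (fn_eq_iff hx (conj_mem_of_nz h.nm hx)).1 e.symm⟩
    have := h.fx (x * u) (mul_mem hx u1.1) (by
      calc a * (x * u) * a⁻¹ = x * (x⁻¹ * (a * x * a⁻¹)) * (a * u * a⁻¹) := by group
        _ = _ := by rw [← u2, commutatorElement_def]; group)
    rw [eq_inv_of_mul_eq_one_left this]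
    exact (k1 _ (F.S.inv_mem u1.1)).1 (Subgroup.inv_mem _ u1)
  · obtain ⟨P, p1, p2, rfl⟩ := q.lift hP
    obtain ⟨g, g1, g2⟩ := q.bwd_aut p1 p2 hg
    obtain ⟨m, m1, m2⟩ := h.cop P p1 g g1
    exact ⟨m, m1, (pw g2 (F.aut_le_nz P g1) m).mem_cz p1 m2⟩

end Hy

theorem cop_all {F : FS G} (hF : F.Sat p) (hpr : r.Coprime p)
    (h : ∀ P, F.Cent P → F.Rad p P → ∀ g ∈ F.aut P, ∃ m, r.Coprime m ∧ g ^ m ∈ cz P) :
    ∀ P ≤ F.S, ∀ g ∈ F.aut P, ∃ m, r.Coprime m ∧ g ^ m ∈ cz P := by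
  refine down_induction fun P hP ih => ?_
  suffices H : ∀ Q, F.FN Q → Nat.card Q = Nat.card P → ∀ g ∈ F.aut Q,
      ∃ m, r.Coprime m ∧ g ^ m ∈ cz Q by
    obtain ⟨k, k1, k2⟩ := F.exists_FN hP
    intro g hg
    obtain ⟨m, m1, m2⟩ := H _ k2 (card_cj k P) _ (cj_aut_le k1 (conj_mem_cj_of hg))
    refine ⟨m, m1, mem_of_eq (conj_inv_mem_cz m2) ?_⟩
    rw [conj_pow]; group
  intro Q hQ e g hg
  have hn := F.aut_le_nz_cz Q
  have n1 : opm p (F.aut Q) (cz Q) ≤ F.aut Q := opm_le _ _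
  have n2 : cz Q ≤ opm p (F.aut Q) (cz Q) := le_opm (F.cz_le_aut Q) hn (PMod.of_le le_rfl)
  have n3 := le_nz_opm (p := p) hn
  have n4 := opm_pmod (p := p) hn
  have n5 := (hF.fa hQ).le_aiS n1 n4 ((aiS_le_aut hQ.1).trans n3)
  set N := opm p (F.aut Q) (cz Q)
  by_cases hc : F.S ⊓ N ≤ Q
  · refine h Q (cent_of_fc (hF.fc hQ) ((inf_le_inf_left _ n2).trans hc)) ⟨hQ.1, le_antisymm
      (fun x hx => ?_) (ai_le_opm hQ.1 (hF.pg_le hQ.1))⟩ g hg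
    obtain ⟨x1, c, c1, c2⟩ := mem_ai.1 (n5 hx)
    exact mem_ai.2 ⟨x1, c, c1, hc ⟨c2, mul_mem hx (n2 c1)⟩⟩
  obtain ⟨n, b1, b2, b3⟩ := hF.frattini hQ n1 n2 n3 hg
  obtain ⟨m, m1, m2⟩ := ih (Q ⊔ (F.S ⊓ N)) (F.le_S b3) (e ▸ card_lt_of_lt
    (lt_of_le_of_ne le_sup_left fun e1 => hc (le_sup_right.trans e1.ge))) (n * g)
    (mem_aut_of b3 (mem_nz_sup (F.aut_le_nz Q b2) (mem_nz_of_le (le_inf
      ((cj_mono le_sup_right).trans (F.cj_le b3))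
      ((cj_mono inf_le_right).trans (cj_of_nz (n3 b2)).le)))))
  have pw : ∀ j : ℕ, (n * g) ^ j * (g ^ j)⁻¹ ∈ N := fun j => by
    induction j with
    | zero => simpa using one_mem N
    | succ j ih =>
      refine mem_of_eq (mul_mem b1 (conj_mem_of_nz (n3 hg) ih)) ?_
      rw [pow_succ', pow_succ']; group
  obtain ⟨k, hk⟩ := n4 (g ^ m) (by
    simpa using mul_mem (inv_mem (pw m)) (n2 (cz_anti le_sup_left m2)))
  exact ⟨m * p ^ k, m1.mul_right (hpr.pow_right k), by rwa [pow_mul]⟩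

end

theorem hy_main {p r : ℕ} [Fact p.Prime] (hp2 : p ≠ 2) (hr : r.Prime) (n : ℕ) :
    ∀ (G : Type u) [Group G] [Finite G] (F : FS G) (a : G), Nat.card F.S = n → Rich F.S →
      Hy p r F a → F.Nor F.S := by
  induction n using Nat.strong_induction_on with
  | _ n ih =>
  intro G _ _ F a hn hR h
  have step : ∀ D : FS G, D.S = F.S → Hy p r D a → ∀ T, T ≠ ⊥ → D.S ≤ cz T → D.Nor T → a ∈ nz T →
      D.Nor D.S := by
    intro D e hD T t1 t2 t3 t4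
    obtain ⟨G', _, _, θ, E, q, k, hE⟩ := hD.sat.exists_quo t3.sc
    obtain ⟨b, hb⟩ := hD.quo q hE.full (k ▸ t4)
    have := q.nor_pre hD.sat (ih _ ?_ G' E b rfl hE hb) (by
      rw [k]; exact le_cz_comm.1 (inf_le_left.trans t2))
    · rwa [inf_eq_left.2 (le_pre_iff.2 ⟨le_rfl, q.S_eq.ge⟩)] at this
    · rw [← hn, ← e, q.S_eq, im_self]
      refine lt_of_le_of_ne (Nat.le_of_dvd Nat.card_pos (card_range_dvd θ)) fun e1 => t1 ?_
      have hi : Function.Injective θ.rangeRestrict :=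
        ((Nat.bijective_iff_surjective_and_card _).2 ⟨θ.rangeRestrict_surjective, e1.symm⟩).1
      refine eq_bot_iff.2 fun t ht => ?_
      rw [← k] at ht
      have h1 := (mem_pre.1 ht.2).2
      rw [fn_of_mem θ ht.1] at h1
      exact congrArg Subtype.val (hi (a₁ := ⟨t, ht.1⟩) (a₂ := 1) (Subtype.ext (by simpa using h1)))
  by_cases h0 : F.S = ⊥
  · rw [h0]; exact F.nor_bot
  have hW := conjFunctor_jn (G := G) (p := p)
  have j1 := W_le hW h.sat.pg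
  have j2 := W_nz hW h.sat.pg
  have j3 := (le_nz _).trans j2
  have hN := h.nf j1 j3 (j2 h.nm)
  have e := NF_S_of_normal j3
  obtain ⟨T, t1, t2, t3, t4⟩ := hN.exists_cen hp2 hr (NF_nor j1) (W_ne hW h.sat.pg h0) (j2 h.nm)
  have n1 := step _ e hN T t1 t2 t3 t4
  obtain ⟨U, u1, u2, u3, u4, u5, -⟩ := h.exists_irr hp2 hr le_rfl h0 h.nm
  refine step F rfl h U u2 (le_cz_comm.1 (u1.trans inf_le_right))
    (S5278.nor_of h.sat hR hp2 u1 ((n1.of_le ((u1.trans inf_le_left).trans e.ge) ?_).le_NF (normK_le _ _ _))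
      fun x hx hx' => u5 x (mem_aut_of hx hx'.1) hx') u4
  rw [e]
  exact (aut_mono (normK_le _ _ _) _).trans u3

end Cfsg.Agent.Fv
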